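import Groth.Agent.Lib.WeilEtale25.Split
import Groth.Agent.Lib.AVDegree22.Count2
import Mathlib.Data.Fintype.CardEmbedding

/-!
# The cover of ordered fibres of a finite étale cover of constant degree
-/

set_option autoImplicit false
set_option backward.isDefEq.respectTransparency.types false
universe u

open CategoryTheory CategoryTheory.Limits AlgebraicGeometry

namespace Groth.Agent.SplitCover25

variable {X Y S : Scheme.{u}}

/-- The number of geometric points of a fibre is the rank. -/
theorem card_fibre (f : X ⟶ S) [IsFinite f] [Etale f] {Ω : Type u} [Field Ω] [IsAlgClosed Ω]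
    (ξ : Spec (CommRingCat.of Ω) ⟶ S) :
    Nat.card {s : Spec (CommRingCat.of Ω) ⟶ X // s ≫ f = ξ} = f.finrank (ξ (IsLocalRing.closedPoint Ω)) := by
  let N : Over (Spec (CommRingCat.of Ω)) := Over.mk (pullback.snd f ξ)
  haveI : IsFinite N.hom := inferInstanceAs (IsFinite (pullback.snd f ξ))
  haveI : Etale N.hom := inferInstanceAs (Etale (pullback.snd f ξ))
  have h0 : Spec.map (CommRingCat.ofHom (algebraMap Ω Ω)) = 𝟙 _ := by
    rw [Algebra.algebraMap_self]; exact Spec.map_id _
  refine Eq.trans (Nat.card_congr ?_) ((AVDegree22.card_points (k := Ω) Ω N).trans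
    (Scheme.Hom.finrank_pullback_snd f ξ _))
  exact
    { toFun := fun s => Over.homMk (pullback.lift s.1 (𝟙 _) (by rw [s.2, Category.id_comp]))
        (by show pullback.lift s.1 (𝟙 _) _ ≫ pullback.snd f ξ = Spec.map _; rw [pullback.lift_snd, h0])
      invFun := fun y => ⟨y.left ≫ pullback.fst f ξ, by
        have hy : y.left ≫ pullback.snd f ξ = 𝟙 _ := (Over.w y).trans h0
        rw [Category.assoc, pullback.condition, reassoc_of% hy]⟩
      left_inv := fun s => Subtype.ext (pullback.lift_fst _ _ _)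
      right_inv := fun y => Over.OverMorphism.ext (pullback.hom_ext (pullback.lift_fst _ _ _)
        ((pullback.lift_snd _ _ _).trans ((Over.w y).trans h0).symm)) }

/-- Every point is the image of a geometric point. -/
theorem exists_geomPoint (z : X) : ∃ (Ω : Type u) (_ : Field Ω) (_ : IsAlgClosed Ω)
    (ξ : Spec (CommRingCat.of Ω) ⟶ X), ξ (IsLocalRing.closedPoint Ω) = z := by
  refine ⟨AlgebraicClosure (X.residueField z), inferInstance, inferInstance,
    Spec.map (CommRingCat.ofHom (algebraMap (X.residueField z) (AlgebraicClosure (X.residueField z)))) ≫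
      X.fromSpecResidueField z, ?_⟩
  rw [Scheme.Hom.comp_apply]
  exact Scheme.fromSpecResidueField_apply _ _

/-- A map from a point factors through an open immersion as soon as its image does. -/
theorem exists_fac {U : Scheme.{u}} (i : U ⟶ X) [IsOpenImmersion i] {Ω : Type u} [Field Ω]
    (s : Spec (CommRingCat.of Ω) ⟶ X) (h : s (IsLocalRing.closedPoint Ω) ∈ Set.range i) :
    ∃ t : Spec (CommRingCat.of Ω) ⟶ U, t ≫ i = s :=
  ⟨IsOpenImmersion.lift i s (by
    rintro _ ⟨w, rfl⟩
    rwa [Subsingleton.elim w (IsLocalRing.closedPoint Ω)]), IsOpenImmersion.lift_fac _ _ _⟩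

/-- The locus where two maps to a finite étale scheme agree is open and closed. -/
theorem exists_clopen_eq (f : Y ⟶ S) [IsFinite f] [Etale f] (a b : X ⟶ Y) (h : a ≫ f = b ≫ f) :
    ∃ E : Set X, IsClopen E ∧ ∀ (Ω : Type u) [Field Ω] (s : Spec (CommRingCat.of Ω) ⟶ X),
      s (IsLocalRing.closedPoint Ω) ∈ E ↔ s ≫ a = s ≫ b := by
  let d : X ⟶ pullback f f := pullback.lift a b h
  haveI : IsClosedImmersion (pullback.diagonal f) := inferInstance
  haveI : IsOpenImmersion (pullback.diagonal f) := inferInstance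
  let i := pullback.fst d (pullback.diagonal f)
  refine ⟨Set.range i, ⟨i.isClosedEmbedding.isClosed_range, i.isOpenEmbedding.isOpen_range⟩, fun Ω _ s => ?_⟩
  have hi : i ≫ a = i ≫ b := by
    have h1 := congrArg (· ≫ pullback.fst f f) (pullback.condition (f := d) (g := pullback.diagonal f))
    have h2 := congrArg (· ≫ pullback.snd f f) (pullback.condition (f := d) (g := pullback.diagonal f))
    simp only [d, Category.assoc, pullback.lift_fst, pullback.lift_snd, pullback.diagonal_fst,
      pullback.diagonal_snd, Category.comp_id] at h1 h2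
    exact h1.trans h2.symm
  constructor
  · intro hs
    obtain ⟨t, rfl⟩ := exists_fac i s hs
    rw [Category.assoc, hi, Category.assoc]
  · intro hs
    have e : s ≫ d = (s ≫ a) ≫ pullback.diagonal f := by
      apply pullback.hom_ext
      · rw [Category.assoc, pullback.lift_fst, Category.assoc, pullback.diagonal_fst, Category.comp_id]
      · rw [Category.assoc, pullback.lift_snd, Category.assoc, pullback.diagonal_snd, Category.comp_id, hs]
    refine ⟨pullback.lift s (s ≫ a) e (IsLocalRing.closedPoint Ω), ?_⟩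
    rw [← Scheme.Hom.comp_apply, pullback.lift_fst]

variable (f : Y ⟶ S) [IsFinite f] [Etale f] {n : ℕ}

/-- The cover of numberings of the fibres. -/
theorem exists_numbering (hn : 1 ≤ n) (hdeg : ∀ y, f.finrank y = n) :
    ∃ (T : Scheme.{u}) (g : T ⟶ S) (w : Fin n → (T ⟶ Y)), FEt.prop g ∧ Surjective g ∧ (∀ j, w j ≫ f = g) ∧
      (∀ y, g.finrank y = n.factorial) ∧
      ∀ (Ω : Type u) [Field Ω] (s : Spec (CommRingCat.of Ω) ⟶ T) (i j : Fin n), i ≠ j → s ≫ w i ≠ s ≫ w j := by
  classical
  obtain ⟨P, π, v, hπ, hv, huniv⟩ :=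
    WeilEtale25.exists_power (𝟙 S) f (⟨inferInstance, inferInstance⟩ : FEt.prop f) n
  simp only [Category.comp_id] at hv huniv
  choose E hE hmem using fun p : Fin n × Fin n => exists_clopen_eq f (v p.1) (v p.2) ((hv _).trans (hv _).symm)
  let D : Set P := ⋃ p ∈ {p : Fin n × Fin n | p.1 ≠ p.2}, E p
  have hD : IsClopen D := (Set.toFinite _).isClopen_biUnion fun p _ => hE p
  let U : P.Opens := ⟨Dᶜ, hD.compl.isOpen⟩
  haveI : IsClosedImmersion U.ι := .of_isPreimmersion _ (by rw [Scheme.Opens.range_ι]; exact hD.compl.isClosed)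
  haveI : IsFinite π := hπ.1
  haveI : Etale π := hπ.2
  let g : (U : Scheme.{u}) ⟶ S := U.ι ≫ π
  let w : Fin n → ((U : Scheme.{u}) ⟶ Y) := fun j => U.ι ≫ v j
  have hw : ∀ j, w j ≫ f = g := fun j => by simp only [w, g, Category.assoc, hv]
  haveI : Flat g := inferInstance
  have hne : ∀ (Ω : Type u) [Field Ω] (s : Spec (CommRingCat.of Ω) ⟶ (U : Scheme.{u})) (i j : Fin n), i ≠ j →
      s ≫ w i ≠ s ≫ w j := by
    intro Ω _ s i j hij he
    have h1 : (s ≫ U.ι) (IsLocalRing.closedPoint Ω) ∈ Dᶜ := by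
      rw [Scheme.Hom.comp_apply]
      exact (s (IsLocalRing.closedPoint Ω)).2
    refine h1 (Set.mem_biUnion (x := (i, j)) hij ((hmem (i, j) Ω (s ≫ U.ι)).2 ?_))
    simpa only [w, Category.assoc] using he
  have hcard : ∀ y, g.finrank y = n.factorial := by
    intro y
    obtain ⟨Ω, _, _, ξ, rfl⟩ := exists_geomPoint y
    rw [← card_fibre g ξ]
    have hc := card_fibre f ξ
    rw [hdeg] at hc
    haveI : Finite {s : Spec (CommRingCat.of Ω) ⟶ Y // s ≫ f = ξ} := Nat.finite_of_card_ne_zero (by omega)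
    haveI := Fintype.ofFinite {s : Spec (CommRingCat.of Ω) ⟶ Y // s ≫ f = ξ}
    let Φ : {s : Spec (CommRingCat.of Ω) ⟶ (U : Scheme.{u}) // s ≫ g = ξ} →
        (Fin n ↪ {s : Spec (CommRingCat.of Ω) ⟶ Y // s ≫ f = ξ}) := fun s =>
      ⟨fun j => ⟨s.1 ≫ w j, by rw [Category.assoc, hw, s.2]⟩, fun i j hij => by_contra fun hij' =>
        hne Ω s.1 i j hij' (congrArg Subtype.val hij)⟩
    have hΦ : Function.Bijective Φ := by
      constructor
      · intro s s' h
        apply Subtype.ext
        rw [← cancel_mono U.ι]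
        refine (huniv (Spec (CommRingCat.of Ω)) ξ (fun j => s.1 ≫ w j)
          (fun j => by rw [Category.assoc, hw, s.2])).unique ⟨(Category.assoc _ _ _).trans s.2, fun j => Category.assoc _ _ _⟩
          ⟨(Category.assoc _ _ _).trans s'.2, fun j => ?_⟩
        rw [Category.assoc]
        exact (congrArg Subtype.val (DFunLike.congr_fun h j)).symm
      · intro e
        obtain ⟨p, ⟨hp, hpv⟩, -⟩ := huniv _ ξ (fun j => (e j).1) (fun j => (e j).2)
        have hpU : p (IsLocalRing.closedPoint Ω) ∈ Set.range U.ι := by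
          rw [Scheme.Opens.range_ι]
          show p (IsLocalRing.closedPoint Ω) ∉ D
          simp only [D, Set.mem_iUnion, not_exists]
          intro q hq hmq
          have := (hmem q Ω p).1 hmq
          rw [hpv, hpv] at this
          exact hq (e.injective (Subtype.ext this))
        obtain ⟨t, rfl⟩ := exists_fac U.ι p hpU
        refine ⟨⟨t, (Category.assoc _ _ _).symm.trans hp⟩, ?_⟩
        ext j
        exact (Category.assoc _ _ _).symm.trans (hpv j)
    rw [Nat.card_eq_of_bijective Φ hΦ, Nat.card_eq_fintype_card, Fintype.card_embedding_eq, Fintype.card_fin,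
      ← Nat.card_eq_fintype_card, hc, Nat.descFactorial_self]
  refine ⟨U, g, w, ⟨inferInstance, inferInstance⟩, ?_, hw, hcard, hne⟩
  exact (g.one_le_finrank_iff_surjective).1 fun y => by
    rw [hcard]; exact n.factorial_pos

/-- `n` everywhere distinct maps split a cover of degree `n`. -/
theorem exists_iso_split (hn : 1 ≤ n) (hdeg : ∀ y, f.finrank y = n) {T : Scheme.{u}} (g : T ⟶ S)
    (w : Fin n → (T ⟶ Y)) (hw : ∀ j, w j ≫ f = g)
    (hne : ∀ (Ω : Type u) [Field Ω] (s : Spec (CommRingCat.of Ω) ⟶ T) (i j : Fin n), i ≠ j → s ≫ w i ≠ s ≫ w j) :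
    ∃ e : pullback f g ≅ ∐ fun _ : ULift.{u} (Fin n) => T,
      ∀ i, Sigma.ι (fun _ : ULift.{u} (Fin n) => T) i ≫ e.inv ≫ pullback.snd f g = 𝟙 T := by
  classical
  let τ : ULift.{u} (Fin n) → (T ⟶ pullback f g) := fun i =>
    pullback.lift (w i.down) (𝟙 T) (by rw [hw, Category.id_comp])
  have hτ : ∀ i, τ i ≫ pullback.snd f g = 𝟙 T := fun i => pullback.lift_snd _ _ _
  haveI : ∀ i, IsOpenImmersion (τ i) := fun i => by
    haveI : Etale (τ i ≫ pullback.snd f g) := by rw [hτ]; infer_instance
    haveI : Mono (τ i ≫ pullback.snd f g) := by rw [hτ]; infer_instance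
    haveI : Mono (τ i) := mono_of_mono _ (pullback.snd f g)
    haveI : Etale (τ i) := MorphismProperty.of_postcomp (W := @Etale) (W' := @Etale) _ (pullback.snd f g)
      inferInstance ‹_›
    exact IsOpenImmersion.of_flat_of_mono _
  obtain ⟨hc⟩ := nonempty_isColimit_cofanMk_of (σ := ULift.{u} (Fin n)) τ (by
    rw [eq_top_iff]
    intro z _
    obtain ⟨Ω, _, _, q, rfl⟩ := exists_geomPoint z
    let ξ := q ≫ pullback.snd f g ≫ g
    have hc := card_fibre f ξ
    rw [hdeg] at hc
    haveI : Finite {s : Spec (CommRingCat.of Ω) ⟶ Y // s ≫ f = ξ} := Nat.finite_of_card_ne_zero (by omega)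
    let m : Fin n → {s : Spec (CommRingCat.of Ω) ⟶ Y // s ≫ f = ξ} := fun j =>
      ⟨(q ≫ pullback.snd f g) ≫ w j, by simp only [Category.assoc, hw, ξ]⟩
    have hm : Function.Injective m := fun i j hij => by_contra fun hij' =>
      hne Ω _ i j hij' (congrArg Subtype.val hij)
    obtain ⟨j, hj⟩ := (hm.bijective_of_nat_card_le (by rw [hc, Nat.card_fin])).2
      ⟨q ≫ pullback.fst f g, by simp only [Category.assoc, pullback.condition, ξ]⟩
    have hq : (q ≫ pullback.snd f g) ≫ τ ⟨j⟩ = q := by
      apply pullback.hom_ext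
      · rw [Category.assoc, pullback.lift_fst]; exact congrArg Subtype.val hj
      · rw [Category.assoc, hτ, Category.comp_id]
    refine TopologicalSpace.Opens.mem_iSup.2 ⟨⟨j⟩, ?_⟩
    show q (IsLocalRing.closedPoint Ω) ∈ Set.range (τ ⟨j⟩)
    rw [← hq]
    exact ⟨_, (Scheme.Hom.comp_apply _ _ _).symm⟩) (fun i j hij => by
    rw [Function.onFun, disjoint_iff_inf_le]
    rintro z ⟨⟨a, ha⟩, ⟨b, hb⟩⟩
    exfalso
    obtain ⟨Ω, _, _, s, hs⟩ := exists_geomPoint a
    obtain ⟨t, ht⟩ := exists_fac (τ j) (s ≫ τ i) ⟨b, by rw [Scheme.Hom.comp_apply, hs]; exact hb.trans ha.symm⟩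
    have hst : t = s := by
      have := congrArg (· ≫ pullback.snd f g) ht
      simpa only [Category.assoc, hτ, Category.comp_id] using this
    subst hst
    refine hne Ω t i.down j.down (fun h => hij (ULift.ext _ _ h)) ?_
    have := congrArg (· ≫ pullback.fst f g) ht.symm
    simpa only [τ, Category.assoc, pullback.lift_fst] using this)
  refine ⟨hc.coconePointUniqueUpToIso (colimit.isColimit _), fun i => ?_⟩
  rw [← Category.assoc]
  erw [IsColimit.comp_coconePointUniqueUpToIso_inv hc (colimit.isColimit _) ⟨i⟩]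
  exact hτ i

end Groth.Agent.SplitCover25
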